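import Cfsg.Agent.OD.Pre
import Cfsg.Agent.H5.BrauerSuzuki
import Cfsg.Agent.S0840

/-! Thompson's transfer lemma, and perfect groups with an involution centralizer `D₈`. -/

set_option autoImplicit false
open Cfsg CfH4 CfH9 CfH7 Subgroup
open scoped ComplexConjugate commutatorElement

namespace CfH5

universe u

variable {G : Type u} [Group G]

/-- Thompson's transfer lemma (permutation-sign form): if `M` has index twice an odd number and
no conjugate of `u` (`u² = 1`) lies in `M`, then a sign character is nontrivial on `u`. -/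
theorem thompson_sign [Finite G] {M : Subgroup G} {r : ℕ} (hM : M.index = 2 * r) (hr : Odd r)
    {u : G} (hu : u ^ 2 = 1) (h : ∀ g, g * u * g⁻¹ ∉ M) : ∃ f : G →* ℤˣ, f u = -1 := by
  classical
  have := Fintype.ofFinite (G ⧸ M)
  refine ⟨Equiv.Perm.sign.comp (MulAction.toPermHom G (G ⧸ M)), ?_⟩
  have h1 : Fintype.card (Function.fixedPoints (MulAction.toPermHom G (G ⧸ M) u)) = 0 := by
    rw [Fintype.card_eq_zero_iff]
    refine ⟨fun ⟨q, hq⟩ => ?_⟩
    obtain ⟨g, rfl⟩ := QuotientGroup.mk_surjective q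
    have h2 : ((u * g : G) : G ⧸ M) = g := hq
    rw [eq_comm, QuotientGroup.eq] at h2
    exact h g⁻¹ (by simpa [mul_assoc] using h2)
  rw [MonoidHom.comp_apply, Equiv.Perm.sign_of_pow_two_eq_one (by rw [← map_pow, hu, map_one]), h1,
    Fintype.card_eq_nat_card, ← index_eq_card, hM]
  simpa using hr.neg_one_pow

theorem exists_conj_mem_of_mem_commutator [Finite G] {M : Subgroup G} {r : ℕ}
    (hM : M.index = 2 * r) (hr : Odd r) {u : G} (hu : u ^ 2 = 1) (h : u ∈ commutator G) :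
    ∃ g, g * u * g⁻¹ ∈ M := by
  by_contra h1
  obtain ⟨f, hf⟩ := thompson_sign hM hr hu (not_exists.1 h1)
  have := Abelianization.commutator_subset_ker f h
  rw [MonoidHom.mem_ker, hf] at this
  exact absurd this (by decide)

/-- Values of characters at elements of order dividing `2` are integers. -/
theorem char_int_of_sq_eq_one [Finite G] {χ : G → ℂ} (hχ : IsCharacter G χ) {t : G}
    (ht : t ^ 2 = 1) : ∃ c : ℤ, χ t = c := by
  obtain ⟨d, μ, -, h1, h2⟩ := char_eq_sum_roots hχ t two_ne_zero ht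
  have h3 : ∀ i, ∃ c : ℤ, μ i = c := fun i => by
    rcases sq_eq_one_iff.1 (h1 i) with h | h
    · exact ⟨1, by simp [h]⟩
    · exact ⟨-1, by simp [h]⟩
  choose c hc using h3
  exact ⟨∑ i, c i, by simpa [hc] using h2 1⟩

/-- The class multiplication function. -/
noncomputable def classMul (a b : G) (z : G) : ℂ :=
  Nat.card {p : G × G // IsConj a p.1 ∧ IsConj b p.2 ∧ p.1 * p.2 = z}

theorem classMul_classFun [Finite G] (a b : G) : IsClassFunction G (classMul a b) := by
  intro z g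
  simp only [classMul, Cfsg.Agent.S0840.result]
  congr 1
  refine finsum_congr fun χ => ?_
  rw [χ.2.classFun z g]

theorem sum_mul_classMul [Fintype G] (a b : G) {χ : G → ℂ} (hχ : IsIrrCharacter G χ) :
    ∑ z, χ z * classMul a b z = (centralizer ({a} : Set G)).index *
      (centralizer ({b} : Set G)).index * (χ a * χ b / χ 1) := by
  classical
  simp only [classMul, Cfsg.Agent.S0840.result, finsum_eq_sum_of_fintype, natCard_isConj,
    Finset.mul_sum]
  rw [Finset.sum_comm, Finset.sum_eq_single ⟨χ, hχ⟩]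
  · have h1 := card_mul_classInner χ χ
    rw [hχ.classInner_self, mul_one] at h1
    have h2 := natCard_ne_zero G
    rw [← mul_one (_ * _ * _ : ℂ), ← div_self h2]
    conv_rhs => rw [mul_div_assoc', h1, Finset.mul_sum, Finset.sum_div]
    refine Finset.sum_congr rfl fun z _ => ?_
    rw [← h1]
    ring
  · intro ψ _ hψ
    have h1 := card_mul_classInner χ ψ
    rw [hχ.classInner_of_ne ψ.2 (fun h => hψ (Subtype.ext h.symm)), mul_zero] at h1
    have : ∀ z, χ z * (((centralizer ({a} : Set G)).index : ℂ) *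
        (centralizer ({b} : Set G)).index / Nat.card G * (ψ.1 a * ψ.1 b * conj (ψ.1 z) / ψ.1 1)) =
        (centralizer ({a} : Set G)).index * (centralizer ({b} : Set G)).index / Nat.card G *
        (ψ.1 a * ψ.1 b / ψ.1 1) * (χ z * conj (ψ.1 z)) := fun z => by ring
    simp only [this, ← Finset.mul_sum, ← h1, mul_zero]
  · simp

/-- An exceptional pair of characters from a linear character of a subgroup `C` having index two in
the normalizer of a TI-subset. -/
theorem exists_pair_of_index_two [Fintype G] (C : Subgroup G) (l : C →* ℂˣ) {y : G} (hyC : y ∉ C)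
    (hyN : y ∈ Nm(C)) {x : C} (hl1 : l x ^ 2 ≠ 1) (hx : y * x * y⁻¹ = (x : G)⁻¹)
    (hTI : ∀ c : C, l c ≠ 1 → ∀ g : G, g * c * g⁻¹ ∈ C → g ∈ C ∨ g * y⁻¹ ∈ C) :
    ∃ χ₁ χ₂ : G → ℂ, IsIrrCharacter G χ₁ ∧ IsIrrCharacter G χ₂ ∧ χ₁ ≠ χ₂ ∧ χ₁ ≠ (fun _ => 1) ∧
      χ₂ ≠ (fun _ => 1) ∧ (indFun C ((fun c => (l c : ℂ)) - fun _ => 1) + fun _ => 1) = χ₁ - χ₂ ∧
      ∀ c : C, l c ≠ 1 → χ₁ c - χ₂ c =
        l c + l ⟨y * c * y⁻¹, conj_mem_of_mem_normalizer hyN c.2⟩ - 1 := by
  classical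
  let σ : C →* C := ((MulAut.conj y).toMonoidHom.comp C.subtype).codRestrict C
    fun c => conj_mem_of_mem_normalizer hyN c.2
  have hσ : σ x = x⁻¹ := Subtype.ext hx
  let a : C → ℂ := fun c => l c
  let b : C → ℂ := fun c => l.comp σ c
  have ha : IsIrrCharacter C a := isIrrCharacter_of_unitsHom l
  have hb : IsIrrCharacter C b := isIrrCharacter_of_unitsHom (l.comp σ)
  have h1 : IsIrrCharacter C fun _ => 1 := isIrrCharacter_one
  have ha1 : a ≠ fun _ => 1 := fun h0 => hl1 (by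
    have : l x = 1 := Units.ext (congrFun h0 _)
    simp [this])
  have hb1 : b ≠ fun _ => 1 := fun h0 => hl1 (by
    have : l (σ x) = 1 := Units.ext (congrFun h0 _)
    rw [hσ, map_inv, inv_eq_one] at this
    simp [this])
  have hab : a ≠ b := fun h0 => hl1 (by
    have : l x = l (σ x) := Units.ext (congrFun h0 _)
    rwa [hσ, map_inv, eq_inv_iff_mul_eq_one, ← pow_two] at this)
  let α : C → ℂ := a - fun _ => 1
  have hα : IsGeneralizedCharacter C α := ha.isGen.sub isGen_one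
  have hΘ : ∀ c : C, l c ≠ 1 → indFun C α c = (α + (b - fun _ => 1) : C → ℂ) c := by
    intro c hc
    have h2 : ∀ g : G, extendByZero C α (g * c * g⁻¹) = extendByZero C (fun _ => α c) g +
        extendByZero C (fun _ => α (σ c)) (g * y⁻¹) := by
      intro g
      by_cases hg : g ∈ C
      · rw [ebz_conj_mem C hα.classFun hg, ebz_coe, ebz_of_mem C _ hg, ebz_of_not_mem, add_zero]
        exact fun h3 => hyC (by simpa using mul_mem (inv_mem h3) hg)
      by_cases hg' : g * y⁻¹ ∈ C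
      · rw [ebz_of_not_mem C _ hg, ebz_of_mem C _ hg', zero_add, ← ebz_coe C α (σ c),
          ← ebz_conj_mem C hα.classFun hg' (σ c)]
        congr 1
        simp [σ, mul_assoc]
      · rw [ebz_of_not_mem C _ hg, ebz_of_not_mem C _ hg', ebz_of_not_mem, add_zero]
        exact fun h3 => (hTI c hc g h3).elim hg hg'
    have h3 := Fintype.sum_equiv (Equiv.mulRight y⁻¹)
      (fun g => extendByZero C (fun _ => α (σ c)) (g * y⁻¹)) (extendByZero C fun _ => α (σ c))
      fun _ => rfl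
    rw [indFun_apply']
    simp only [h2, Finset.sum_add_distrib, h3, sum_ebz, Finset.sum_const, Finset.card_univ,
      nsmul_eq_mul, Fintype.card_eq_nat_card, ← mul_add, ← mul_assoc,
      inv_mul_cancel₀ (natCard_ne_zero C), one_mul]
    rfl
  have hI : classInner (indFun C α) (indFun C α) = 3 := by
    rw [classInner_indFun_left C α (indFun_isClassFunction C α)]
    have : classInner α (fun c : C => indFun C α c) = classInner α (α + (b - fun _ => 1)) := by
      rw [classInner_def, classInner_def]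
      congr 1
      refine Finset.sum_congr rfl fun c _ => ?_
      by_cases hc : l c = 1
      · simp [α, a, hc]
      · rw [hΘ c hc]
    rw [this]
    simp only [α, classInner_add_right, classInner_sub_left, classInner_sub_right,
      ha.classInner_self, h1.classInner_self, ha.classInner_of_ne h1 ha1,
      h1.classInner_of_ne ha ha1.symm, ha.classInner_of_ne hb hab, h1.classInner_of_ne hb hb1.symm]
    norm_num
  have hI1 : classInner (indFun C α) (fun _ => 1) = -1 := by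
    rw [classInner_indFun_left C α (isClassFunction_const 1)]
    simp only [α, classInner_sub_left, h1.classInner_self, ha.classInner_of_ne h1 ha1]
    norm_num
  have hg := isGenChar_indFun C hα
  have hI2 : classInner (indFun C α + fun _ => 1) (fun _ => 1) = 0 := by
    rw [classInner_add_left, hI1, classInner_one_one]; ring
  obtain ⟨χ₁, χ₂, hχ₁, hχ₂, hne, he⟩ := genChar_norm_two_sub (hg.add isGen_one) (by
    rw [classInner_add_right, hI2, classInner_add_left, hI, ← hg.classInner_comm isGen_one, hI1]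
    norm_num) (by simp [indFun_one, α, a])
  rw [he, classInner_sub_left] at hI2
  refine ⟨χ₁, χ₂, hχ₁, hχ₂, hne, ?_, ?_, he, fun c hc => ?_⟩
  · rintro rfl
    rw [classInner_one_one, hχ₂.classInner_of_ne hχ₁ hne.symm] at hI2
    norm_num at hI2
  · rintro rfl
    rw [classInner_one_one, hχ₁.classInner_of_ne hχ₂ hne] at hI2
    norm_num at hI2
  · have := congrFun he c
    simp only [Pi.add_apply, hΘ c hc, Pi.sub_apply, α] at this
    rw [← this]
    change _ = a c + b c - 1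
    ring

theorem exists_dihedral_data {t : G} (ht : orderOf t = 2) (e : Cx(t) ≃* DihedralGroup 4) :
    ∃ x y, orderOf x = 4 ∧ x ∈ Cx(t) ∧ x ^ 2 = t ∧ y ∈ Cx(t) ∧ y ∉ zpowers x ∧
      (∀ s ∈ Cx(t), s ∈ zpowers x ∨ s * y⁻¹ ∈ zpowers x) ∧
      ∀ s ∈ Cx(t), s ∉ zpowers x → s ^ 2 = 1 ∧ s * x * s⁻¹ = x⁻¹ := by
  let f : DihedralGroup 4 →* G := (Cx(t)).subtype.comp e.symm.toMonoidHom
  have hf : Function.Injective f := (Cx(t)).subtype_injective.comp e.symm.injective
  have h2 : ∀ s ∈ Cx(t), ∃ q, f q = s := fun s hs => ⟨e ⟨s, hs⟩, by simp [f]⟩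
  have h0 : ∀ q, f q ∈ Cx(t) := fun q => (e.symm q).2
  have h1 : ∀ q : DihedralGroup 4, q ∈ zpowers (DihedralGroup.r 1) ↔ ∃ i, q = DihedralGroup.r i := by
    intro q
    constructor
    · rintro ⟨k, rfl⟩
      exact ⟨_, DihedralGroup.r_one_zpow k⟩
    · rintro ⟨i, rfl⟩
      rw [← ZMod.natCast_zmod_val i, ← DihedralGroup.r_one_pow]
      exact pow_mem (mem_zpowers _) _
  have h3 : ∀ q, f q ∈ zpowers (f (DihedralGroup.r 1)) ↔ ∃ i, q = DihedralGroup.r i := by
    intro q
    rw [← h1, ← MonoidHom.map_zpowers, mem_map_iff_mem hf]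
  refine ⟨f (DihedralGroup.r 1), f (DihedralGroup.sr 0), ?_, h0 _, ?_, h0 _, ?_, ?_, ?_⟩
  · rw [orderOf_injective f hf, DihedralGroup.orderOf_r_one]
  · obtain ⟨q, hq⟩ := h2 t (mem_Cx.2 rfl)
    have h4 : ∀ p, p * q = q * p := fun p => hf (by simpa [hq] using mem_Cx.1 (h0 p))
    have h5 : q ≠ 1 := by rintro rfl; simp [← hq] at ht
    conv_rhs => rw [← hq]
    rw [← map_pow]
    congr 1
    have : ∀ q : DihedralGroup 4, (∀ p, p * q = q * p) → q ≠ 1 → DihedralGroup.r 1 ^ 2 = q := by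
      decide
    exact this q h4 h5
  · simp [h3]
  · intro s hs
    obtain ⟨q, rfl⟩ := h2 s hs
    rw [← map_inv, ← map_mul, h3, h3]
    have : ∀ q : DihedralGroup 4, (∃ i, q = DihedralGroup.r i) ∨
      ∃ i, q * (DihedralGroup.sr 0)⁻¹ = DihedralGroup.r i := by decide
    exact this q
  · intro s hs hs'
    obtain ⟨q, rfl⟩ := h2 s hs
    rw [h3] at hs'
    have : ∀ q : DihedralGroup 4, (¬ ∃ i, q = DihedralGroup.r i) → q ^ 2 = 1 ∧
      q * DihedralGroup.r 1 * q⁻¹ = (DihedralGroup.r 1)⁻¹ := by decide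
    rw [← map_pow, ← map_inv, ← map_inv, ← map_mul, ← map_mul, (this q hs').1, (this q hs').2]
    simp

theorem arith_168_360 {r a : ℕ} (hr : Odd r) (ha : 0 < a)
    (h : (r : ℤ) * (a - 1) ^ 2 = 32 * (a * (a + 1)) ∨ (r : ℤ) * (a + 2) ^ 2 = 32 * (a * (a + 1))) :
    r = 21 ∨ r = 45 := by
  have key : ∀ c : ℕ, c ∣ 64 → c = 1 ∨ c = 2 ∨ c = 4 ∨ c = 8 ∨ c = 16 ∨ c = 32 ∨ c = 64 := by
    intro c hc
    have := Nat.le_of_dvd (by norm_num) hc
    interval_cases c <;> simp_all
  obtain ⟨k, rfl⟩ := hr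
  rcases h with h | h
  · obtain ⟨c, rfl⟩ : ∃ c, a = c + 1 := ⟨a - 1, by omega⟩
    have h1 : c ∣ 64 := by
      rw [← Int.natCast_dvd_natCast]
      exact ⟨(2 * k + 1) * c - 32 * c - 96, by push_cast at h ⊢; linear_combination -h⟩
    rcases key c h1 with rfl | rfl | rfl | rfl | rfl | rfl | rfl <;> push_cast at h <;> omega
  · have h1 : a + 2 ∣ 64 := by
      rw [← Int.natCast_dvd_natCast]
      exact ⟨(2 * k + 1) * (a + 2) - 32 * (a + 2) + 96, by push_cast at h ⊢; linear_combination -h⟩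
    have h2 : a = 2 ∨ a = 6 ∨ a = 14 ∨ a = 30 ∨ a = 62 := by have := key _ h1; omega
    rcases h2 with rfl | rfl | rfl | rfl | rfl <;> push_cast at h <;> omega

theorem card_eq_168_or_360 [Finite G] (hperf : commutator G = ⊤) {t : G} (ht : orderOf t = 2)
    (e : Cx(t) ≃* DihedralGroup 4) : Nat.card G = 168 ∨ Nat.card G = 360 := by
  classical
  have := Fintype.ofFinite G
  obtain ⟨x, y, ox, hx, rfl, hy, hy', hmem, hs⟩ := exists_dihedral_data ht e
  have hD : Nat.card Cx(x ^ 2) = 8 := by rw [Nat.card_congr e.toEquiv, DihedralGroup.nat_card]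
  have hle : zpowers x ≤ Cx(x ^ 2) := Subgroup.zpowers_le.2 hx
  have hinv : ∀ s ∈ Cx(x ^ 2), s ∉ zpowers x → ∀ a ∈ zpowers x, s * a * s⁻¹ = a⁻¹ := by
    rintro s h1 h2 _ ⟨k, rfl⟩
    simp only
    rw [← conj_zpow, (hs s h1 h2).2, inv_zpow]
  have ht1 : x ^ 2 ≠ 1 := ne_one_of_orderOf_eq_prime ht
  have hhalf : ∀ s ∈ zpowers x, s ≠ 1 → s ^ 2 = 1 → s = x ^ 2 := fun s h1 h2 h3 =>
    (eq_pow_half two_ne_zero ox h1 h3).resolve_left h2
  have hS : SylIn 2 Cx(x ^ 2) ⊤ := by
    have hp : IsPGroup 2 Cx(x ^ 2) := IsPGroup.of_card (n := 3) hD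
    obtain ⟨T, hT, hT'⟩ := exists_sylIn_ge hp le_top
    obtain ⟨z, hz, hz1, hz2⟩ := exists_mem_center_of_normal hT.pgrp hT.pgrp le_normalizer
      (ne_bot_of_mem (hT' (hle (pow_mem (mem_zpowers x) 2))) ht1)
    have h1 : z ∈ Cx(x ^ 2) := Cz_le_Cx (hT' (hle (pow_mem (mem_zpowers x) 2))) hz2
    have h2 : z ∈ zpowers x := by
      by_contra h2
      have h3 := (hs z h1 h2).2
      rw [conj_eq_of_mem_centralizer hz2 (hT' hx), eq_inv_iff_mul_eq_one, ← pow_two] at h3
      exact ht1 h3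
    have h3 := hinv y hy hy' z h2
    rw [hz2 y (hT' hy), mul_inv_cancel_right, eq_inv_iff_mul_eq_one, ← pow_two] at h3
    rw [hhalf z h2 hz1 h3] at hz2
    exact le_antisymm hT' (le_Cx_iff.2 hz2) ▸ hT
  let r := (Cx(x ^ 2)).index
  have hr : Odd r := Nat.odd_iff.2 (Nat.two_dvd_ne_zero.1 (sylIn_top_iff.1 hS).2)
  have hG : Nat.card G = 8 * r := by rw [← hD, card_mul_index]
  have hM : (zpowers x).index = 2 * r := by
    have := card_mul_index (zpowers x)
    rw [Nat.card_zpowers, ox, hG] at this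
    omega
  have hconj : ∀ u : G, u ≠ 1 → u ^ 2 = 1 → IsConj (x ^ 2) u := by
    intro u h1 h2
    obtain ⟨g, hg⟩ := exists_conj_mem_of_mem_commutator hM hr h2 (hperf ▸ mem_top u)
    rw [← hhalf _ hg (by simpa using h1) (by rw [conj_pow, h2]; simp)]
    exact (isConj_iff.2 ⟨g, rfl⟩).symm
  have hsq : ∀ u : G, IsConj (x ^ 2) u → u ≠ 1 ∧ u ^ 2 = 1 := by
    intro u hu
    obtain ⟨g, rfl⟩ := isConj_iff.1 hu
    exact ⟨by simpa using ht1, by rw [conj_pow, pow_eq_one_of_orderOf ht]; simp⟩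
  have hpow : ∀ c ∈ zpowers x, c ≠ 1 → ∃ k : ℕ, c ^ k = x ^ 2 := by
    intro c hc h1
    by_cases h2 : c ^ 2 = 1
    · exact ⟨1, by rw [pow_one, hhalf c hc h1 h2]⟩
    · refine ⟨2, hhalf _ (pow_mem hc 2) h2 ?_⟩
      have := pow_card_eq_one_of_mem hc
      rwa [Nat.card_zpowers, ox, show 4 = 2 * 2 from rfl, pow_mul] at this
  have hTI : ∀ c ∈ zpowers x, c ≠ 1 → ∀ g, g * c * g⁻¹ ∈ zpowers x → g ∈ Cx(x ^ 2) := by
    intro c hc h1 g hg
    obtain ⟨k, hk⟩ := hpow c hc h1
    have h2 := pow_mem hg k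
    rw [conj_pow, hk] at h2
    have h3 := hsq _ (isConj_iff.2 ⟨g, rfl⟩)
    exact mem_Cx'.2 (hhalf _ h2 h3.1 h3.2)
  have hI : orderOf (Units.mk0 Complex.I Complex.I_ne_zero) ∣
      orderOf (⟨x, mem_zpowers x⟩ : zpowers x) := by
    rw [orderOf_mk, ox, orderOf_dvd_iff_pow_eq_one]
    ext1; simp
  let l : zpowers x →* ℂˣ := monoidHomOfForallMemZpowers (fun ⟨_, k, hk⟩ => ⟨k, Subtype.ext hk⟩) hI
  have hl : l ⟨x, mem_zpowers x⟩ = Units.mk0 Complex.I Complex.I_ne_zero :=
    monoidHomOfForallMemZpowers_apply_gen _ _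
  have hl2 : (l ⟨x ^ 2, pow_mem (mem_zpowers x) 2⟩ : ℂ) = -1 := by
    have : (⟨x ^ 2, pow_mem (mem_zpowers x) 2⟩ : zpowers x) = ⟨x, mem_zpowers x⟩ ^ 2 := rfl
    rw [this, map_pow, hl]; simp
  have hl3 : l ⟨x ^ 2, pow_mem (mem_zpowers x) 2⟩ ≠ 1 := fun h0 => by
    rw [h0] at hl2; norm_num at hl2
  have hyN : y ∈ Nm(zpowers x) := by
    rw [mem_normalizer_iff_cj, cj_zpowers, (hs y hy hy').2, zpowers_inv]
  obtain ⟨ψ, χ, hψ, hχ, hne, hψ1, hχ1, he, hv⟩ := exists_pair_of_index_two (zpowers x) l hy' hyN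
    (x := ⟨x, mem_zpowers x⟩) (by rw [← map_pow]; exact hl3) (hs y hy hy').2
    fun c hc g hg => hmem g (hTI c c.2 (fun h0 => hc (by rw [show c = 1 from Subtype.ext h0, map_one]))
      g hg)
  have hvt : ψ (x ^ 2) - χ (x ^ 2) = -3 := by
    have := hv _ hl3
    simp only [mem_Cx'.1 hy, hl2] at this
    rw [this]; norm_num
  have hv1 : ψ 1 = χ 1 + 1 := by
    have := congrFun he 1
    simp only [Pi.add_apply, indFun_one, Pi.sub_apply, map_one, Units.val_one] at this
    linear_combination -this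
  have hφ : ∀ c ∈ zpowers x, c ≠ 1 → classMul (x ^ 2) (x ^ 2) c = 4 := by
    intro c hc h1
    have h2 : Nat.card {p : G × G // IsConj (x ^ 2) p.1 ∧ IsConj (x ^ 2) p.2 ∧ p.1 * p.2 = c} =
        Nat.card (zpowers x) := by
      refine Nat.card_congr ⟨fun p => ⟨p.1.1 * y⁻¹, ?_⟩, fun a => ⟨(a * y, (a * y)⁻¹ * c), ?_⟩,
        fun p => ?_, fun a => ?_⟩
      · obtain ⟨⟨u, v⟩, hu, hv, rfl⟩ := p
        have hu' := hsq u hu
        have hv' := hsq v hv
        have h3 : u * (u * v) * u⁻¹ = (u * v)⁻¹ := by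
          rw [← mul_assoc, ← pow_two, hu'.2, one_mul, mul_inv_rev,
            inv_eq_of_mul_eq_one_right (a := v) (pow_two v ▸ hv'.2)]
        refine (hmem u (hTI _ hc h1 u (h3 ▸ inv_mem hc))).resolve_left fun h4 => h1 ?_
        have h5 : v ∈ zpowers x := by simpa using mul_mem (inv_mem h4) hc
        simp only
        rw [hhalf u h4 hu'.1 hu'.2, hhalf v h5 hv'.1 hv'.2, ← pow_add]
        exact pow_eq_one_of_orderOf ox
      · have h3 : a * y ∉ zpowers x := fun h => hy' (by simpa using mul_mem (inv_mem a.2) h)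
        have h4 : (a * y)⁻¹ * c ∉ zpowers x := fun h => h3 (by simpa using mul_mem hc (inv_mem h))
        have h5 := mul_mem (hle a.2) hy
        exact ⟨hconj (a * y) (fun h => h3 (h ▸ one_mem _)) (hs _ h5 h3).1,
          hconj ((a * y)⁻¹ * c) (fun h => h4 (h ▸ one_mem _))
            (hs _ (mul_mem (inv_mem h5) (hle hc)) h4).1, mul_inv_cancel_left _ _⟩
      · obtain ⟨⟨u, v⟩, hu, hv, rfl⟩ := p
        simp
      · simp
    rw [classMul, h2, Nat.card_zpowers, ox]; norm_num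
  have hsum : ∑ z, indFun (zpowers x) ((fun c => (l c : ℂ)) - fun _ => 1) z * classMul (x ^ 2) (x ^ 2) z =
      -32 * r := by
    rw [sum_indFun_mul _ _ (classMul_classFun _ _), hM]
    have h2 : ∀ c : zpowers x, ((fun c => (l c : ℂ)) - fun _ => 1 : zpowers x → ℂ) c *
        classMul (x ^ 2) (x ^ 2) c = 4 * (l c * conj 1) - 4 := by
      intro c
      by_cases hc : c = 1
      · simp [hc]
      · rw [hφ c c.2 (by simpa using hc)]; simp; ring
    have h3 := card_mul_classInner (fun c => (l c : ℂ)) fun _ => 1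
    rw [(isIrrCharacter_of_unitsHom l).classInner_of_ne isIrrCharacter_one
      (fun h0 => hl3 (Units.ext (congrFun h0 _)))] at h3
    simp only [h2, Finset.sum_sub_distrib, ← Finset.mul_sum, ← h3, Finset.sum_const,
      Finset.card_univ, Fintype.card_eq_nat_card, Nat.card_zpowers, ox]
    push_cast; ring
  rw [eq_sub_of_add_eq he] at hsum
  simp only [Pi.sub_apply, sub_mul, Finset.sum_sub_distrib, sum_mul_classMul _ _ hψ,
    sum_mul_classMul _ _ hχ, sum_mul_classMul _ _ isIrrCharacter_one] at hsum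
  obtain ⟨c, hc⟩ := char_int_of_sq_eq_one hχ.isCharacter (pow_eq_one_of_orderOf ht)
  obtain ⟨a, ha, ha'⟩ := hχ.exists_degree
  have hd : ψ (x ^ 2) = (c - 3 : ℤ) := by push_cast; linear_combination hvt + hc
  have hb : 1 + (c : ℝ) ^ 2 + (c - 3) ^ 2 ≤ 8 := by
    have h1 := sum_irr_normSq (x ^ 2)
    rw [hD] at h1
    have h2 := Finset.sum_le_univ_sum_of_nonneg (s := {⟨_, isIrrCharacter_one⟩, ⟨χ, hχ⟩, ⟨ψ, hψ⟩})
      (f := fun ξ : IrrCharacter G => ‖ξ.1 (x ^ 2)‖ ^ 2) fun _ => by positivity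
    rw [Finset.sum_insert (by simp [hχ1.symm, hψ1.symm]), Finset.sum_pair (by simp [hne.symm]),
      h1] at h2
    simp only [hc, hd, norm_one, Complex.norm_intCast, sq_abs] at h2
    push_cast at h2
    linarith
  have hb' : 1 + c ^ 2 + (c - 3) ^ 2 ≤ 8 := by exact_mod_cast hb
  have hc' : c = 1 ∨ c = 2 := by
    have : 0 < c := by nlinarith
    have : c < 3 := by nlinarith
    omega
  have hr0 : (r : ℂ) ≠ 0 := by exact_mod_cast hr.pos.ne'
  have ha0 : (a : ℂ) ≠ 0 := by exact_mod_cast ha.ne'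
  have ha1 : (a : ℂ) + 1 ≠ 0 := by exact_mod_cast Nat.succ_ne_zero a
  rw [hv1, hd, hc, ha'] at hsum
  change (r : ℂ) * r * _ - r * r * _ - r * r * _ = _ at hsum
  have := arith_168_360 hr ha (hc'.imp (by
    rintro rfl
    have : (r : ℂ) * (a - 1) ^ 2 = 32 * (a * (a + 1)) := by
      field_simp at hsum
      push_cast at hsum
      linear_combination -hsum
    exact_mod_cast this) (by
    rintro rfl
    have : (r : ℂ) * (a + 2) ^ 2 = 32 * (a * (a + 1)) := by
      field_simp at hsum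
      push_cast at hsum
      linear_combination -hsum
    exact_mod_cast this))
  omega

end CfH5
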