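import Cfsg.Agent.H5.Nat
import Cfsg.Agent.H5.NatI
/-! Centralisers `2^(1+8).Sp₆(2)` with the spin action: the involution is weakly closed in `Q`. -/
set_option autoImplicit false
set_option maxRecDepth 100000
set_option linter.all false
open CfL hiding Tp Tm Zp Zm hZp hZm cZp cZm es_rels autp autm
open CfH6 CfH6.Co MulAction Subgroup CfH9
open CfH8.C3 (Sp A)
open CfH8.C2 CfH5.SpI

namespace CfH5.Nat

noncomputable def QW : ℕ := nat_lit 0x1325340000001325340000000000000000000000000000000000000000000000000000000000000000000000000000000000000000000000000000015643210000015643210000000137640000000137640000005643210000005643210000000000000000000000000000000037640000000037640000000013450000000013450000000001350000000001350000000000000000000000000000000353670000000353670000000001370000000001370000000013470000000013470000000000000000000000000000137643210000137643210000013253240000013253240000156432170000156432170000000132530000000132530000000000000000000000000000000000000000000000000000000000000000000000000000003764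320000003764320000000000000000000000000000000000000000000000000000000000000000000000000000015643270000015643270000000000000000000000000000000000000000000000000000000000000000000000000000000000000000000000000000000000640000000000640000000000350000000000350000000005640000000005640000000000030000000000030000000000000000000000000000000000000000000000000000000000000000000000000000000035360000000035360000000000000000000000000000000000000000000000000000000000000000000000000000000367640000000367640000000000000000000000000000000000000000000000000000000000000000000000000000000000000000000000000000000000060000000000060000000000370000000000370000000006470000000006470000000000320000000000320000000000000000000000000000000000000000000000000000000000000000000000000000013764320000013764320000000000000000000000000000000000000000000000000000000000000000000000000000005643270000005643270000000000000000000000000000000000000000000000000000000000000000000000000000000000000000000000000000367643210000367643210000001325320000001325320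001327643210001327643210000000132760000000132760000000000000000000000000000000000000000000000000000000000000000000000000000003536470000003536470000000000000000000000000000000000000000000000000000000000000000000000000000000003760000000003760000000000000000000000000000000000000000000000000000000000000000000000000000001327640000001327640000000000000000000000000000000000000000000000000000000000000000000000000000000000000000000000000000056432170000056432170000000013760000000013760000037643210000037643210000000000000000000000000000132764320000132764320000000016470000000016470000000001670000000001670000000000000000000000000000000564320000000564320000000001560000000001560000000015640000000015640000000032570000000032570000000000000000000000000000000000000000000000000000000000000000000000000000000000000000000000000000000005670000000005670000000003270000000003270000000000670000000000670000000000000000000000000000000353640000000353640000000013530000000013530000000000130000000000130000000000000000000000000000000036760000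000036760000000001340000000001340000000134570000000134570000000003530000000003530000000000000000000000000000000000000000000000000000000000000000000000000000000000000000000000000000000056470000000056470000000003250000000003250000000000560000000000560000000000000000000000000000001564320000001564320000000156470000000156470000000001640000000001640000000000000000000000000000036764320000036764320000000000160000000000160000000015670000000015670000000000000000000000000000000056430000000056430000000003560000000003560000000123450000000123450000013253460000013253460000000000000000000000000000000000000000000000000000000000000000000000000000015643760000015643760000000000000000000000000000000000000000000000000000000000000000000000000000012345760000012345760000000000000000000000000000000000000000000000000000000000000000000000000000000376430000000376430000000000000000000000000000000000000000000000000000000000000000000000000000000000000000000000000000001345760000001345760000000123470000000123470000000003670000000003670000000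000000000000000000000012345340000012345340000156432760000156432760000000134530000000134530000000000000000000000000000013453210000013453210000056432760000056432760000001345340000001345340000000000360000000000360000000000000000000000000000000000000000000000000000000000000000000000000000000000000000000000000000000012340000000012340000001347640000001347640000000156430000000156430000000000000000000000000000000564760000000564760000000001250000000001250000000000050000000000050000000000000000000000000000564321760000564321760000013476430000013476430000327643210000327643210000000001230000000001230000000000000000000000000000000000000000000000000000000000000000000000000000000000000000000000000000000001320000000001320000000564370000000564370000003257640000003257640000000000000000000000000001234532140001234532140000032764320000032764320012345321460012345321460000000000000000000000000000000032530000000032530000134764320000134764320000123453460000123453460000000000000000000000000000013276430000013276430000000013270000000013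27000000001237000000001237000000003276000000003276000000000000000000000000000000000000000000000000000000000000000000000000000000564376000000564376000000000000000000000000000000000000000000000000000000000000000000000000000000123476000000123476000000000000000000000000000000000000000000000000000000000000000000000000000000156437000000156437000000000000000000000000000000000000000000000000000000000000000000000000000000000000000000000000000000032764000000032764000000001235000000001235000000001325000000001325000000000000000000000000000000123453000000123453000000156476000000156476000001234532000001234532000000000000000000000000000000134532000000134532000000016476000000016476000012345324000012345324000000013257000000013257000000000000000000000000000000000000000000000000000000000000000000000000000000000000000000000000000000012353000000012353000000032576000000032576000000367643000000367643000000000000000000000000000156432176000156432176000000000012000000000012000134764321000134764321000000000000000000000000000000006476000000006476000000327643000000327643000000000000000000000000000000123457000000123457000000000000000000000000000000000000000000000000000000000000000000000000000000000000000000000000000000003567000000003567000000137643000000137643000000013476000000013476000000000000000000000000000000032532000000032532000000000001000000000001000123453246000123453246000000000000000000000000000012345321000012345321000000000015000000000015000000000000000000000000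
def PW : List (List ℕ) := [[], [0, 1], [0, 3], [1], [1, 0, 3], [2, 1], [3]]

section
variable {G : Type*} [Group G] [Finite G] {Q Q' X : Subgroup G} {z u g c x q : G} {π : Cx(z) →* Sp}

theorem LX.cj (h : LX z Q) (g : G) : LX (g * z * g⁻¹) (cj g Q) where
  zQ := conj_mem_cj g h.zQ
  z1 := by simpa using h.z1
  zc := by rintro _ ⟨a, ha, rfl⟩; exact (cj_comm g).2 (h.zc a ha)
  cm := by
    rintro _ ⟨a, ha, rfl⟩ _ ⟨b, hb, rfl⟩
    change g * a * g⁻¹ * (g * b * g⁻¹) = g * b * g⁻¹ * (g * a * g⁻¹) ∨
      g * a * g⁻¹ * (g * b * g⁻¹) = _ * (g * b * g⁻¹ * (g * a * g⁻¹))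
    rw [← cjm, ← cjm, ← cjm]
    exact (h.cm a ha b hb).imp (fun e => by rw [e]) fun e => by rw [e]
  cQ := (card_cj g Q).trans h.cQ
  nm := by
    rintro k hk _ ⟨a, ha, rfl⟩
    exact ⟨_, h.nm _ ((back g).2 hk) a ha, by simp [mul_assoc]⟩
  ct := fun k e => (h.ct (g⁻¹ * k * g) fun a ha => (back g).2 (e _ (conj_mem_cj g ha))).imp
    (fun e => by rw [show k = g * (g⁻¹ * k * g) * g⁻¹ by group, e]; simp) fun e => by rw [← e]; group

theorem LX.cjq (h : LX z Q) (hq : q ∈ Q) (hx : x ∈ Q) : q * x * q⁻¹ = x ∨ q * x * q⁻¹ = z * x :=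
  (h.cm q hq x hx).imp (fun e => by rw [e]; group) fun e => by rw [e]; group

theorem LX.exn (h : LX z Q) (h1 : x ≠ 1) (h2 : x ≠ z) : ∃ t ∈ Q, t * x ≠ x * t := by
  by_contra! k; exact (h.ct x fun a ha => (k a ha).symm).elim h1 h2

theorem LX.c256 (h : LX z Q) (hx : x ∈ Q) (h1 : x ≠ 1) (h2 : x ≠ z) : Nat.card (Q ⊓ Cx(x) : Subgroup G) = 256 ∧
    Nat.card (Q ⊓ Cz(Q ⊓ Cx(x)) : Subgroup G) = 4 := by
  obtain ⟨t, ht, n⟩ := h.exn h1 h2
  have := h.half' le_rfl hx ht n
  have c := h.cc (A := Q ⊓ Cx(x)) inf_le_left ⟨h.zQ, mem_Cx.2 (h.zc x hx).symm⟩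
  rw [h.cQ] at this
  have e : Nat.card (Q ⊓ Cx(x) : Subgroup G) = 256 := by omega
  rw [e] at c
  exact ⟨e, by omega⟩

abbrev im (π : Cx(z) →* Sp) (X : Subgroup G) : Subgroup Sp := (X.subgroupOf Cx(z)).map π

theorem card_im (ker : ∀ g : Cx(z), π g = 1 ↔ (g : G) ∈ Q) (hX : X ≤ Cx(z)) :
    Nat.card X = Nat.card (X ⊓ Q : Subgroup G) * Nat.card (im π X) := by
  let f := π.comp (inclusion hX)
  rw [← f.ker.card_mul_index, index_ker, show f.ker = (X ⊓ Q).subgroupOf X from Subgroup.ext fun a =>
    (ker _).trans (and_iff_right a.2).symm, card_subgroupOf inf_le_left,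
    show f.range = im π X from Subgroup.ext fun y => ⟨by rintro ⟨a, rfl⟩; exact ⟨_, a.2, rfl⟩,
      by rintro ⟨a, ha, rfl⟩; exact ⟨⟨a, ha⟩, rfl⟩⟩]

theorem sym (h : LX z Q) (h' : LX u Q') (ker : ∀ g : Cx(z), π g = 1 ↔ (g : G) ∈ Q) (n : z ≠ u) (hz : z ∈ Q') : u ∈ Q := by
  by_contra nu
  obtain ⟨c1, c2⟩ := h'.c256 hz h.z1 n
  have uz := (h'.zc z hz).symm
  have uB : u ∈ Q' ⊓ Cx(z) := ⟨h'.zQ, mem_Cx.2 uz⟩
  have two : ∀ Y : Subgroup G, z ∈ Y → 2 ≤ Nat.card Y := fun Y k => by
    simpa using dbl (bot_le (a := Y)) k (by simpa using h.z1)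
  have c3 := dbl (K := Q' ⊓ Cx(z) ⊓ Q) (L := Q' ⊓ Cz(Q' ⊓ Cx(z))) (fun e he => ⟨he.1.1, fun b hb =>
    mul_inv_eq_iff_eq_mul.1 ((h'.cjq hb.1 he.1.1).resolve_right fun f => nu (by
      have := h.nm b (mem_Cx.1 hb.2) e he.2
      rw [f] at this; exact (Q.mul_mem_cancel_right he.2).1 this))⟩) ⟨h'.zQ, fun b hb => h'.zc b hb.1⟩ fun k => nu k.2
  have c4 := two (Q' ⊓ Cx(z) ⊓ Q) ⟨⟨hz, mem_Cx.2 rfl⟩, h.zQ⟩
  have c5 := card_im (X := Q' ⊓ Cx(z)) ker inf_le_right
  rw [c1, show Nat.card (Q' ⊓ Cx(z) ⊓ Q : Subgroup G) = 2 by omega] at c5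
  refine JS3 (P := im π (Q' ⊓ Cx(z))) (c := π ⟨u, uB.2⟩) (by omega) ⟨_, uB, rfl⟩ ?_ ?_ fun N hN cN aN => ?_
  · rintro _ ⟨a, ha, rfl⟩
    rw [← map_mul, ← map_mul]; exact congrArg π (Subtype.ext (h'.zc a ha.1))
  · rintro _ ⟨a, ha, rfl⟩ _ ⟨b, hb, rfl⟩
    rw [← map_mul, ← map_mul, ← map_mul]
    exact (h'.cm a ha.1 b hb.1).imp (fun e => congrArg π (Subtype.ext e)) fun e => congrArg π (Subtype.ext e)
  let M := Q' ⊓ (N.comap π).map Cx(z).subtype
  have m1 : M ≤ Cx(z) := inf_le_right.trans (map_subtype_le _)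
  have m2 := card_im ker m1
  have m3 := two (M ⊓ Q) ⟨⟨hz, ⟨z, mem_Cx.2 rfl⟩, by
    change π _ ∈ N; rw [(ker _).2 h.zQ]; exact one_mem _, rfl⟩, h.zQ⟩
  have m4 := card_le_of_le (H := N) (K := im π M) fun y hy => by
    obtain ⟨a, ha, rfl⟩ := hN hy; exact ⟨a, ⟨ha.1, a, hy, rfl⟩, rfl⟩
  by_contra! k
  obtain ⟨_, ⟨ha, a, aN', rfl⟩, _, ⟨hb, b, bN, rfl⟩, e⟩ := h'.nab (A := M) inf_le_left ⟨h'.zQ, ⟨u, uB.2⟩, cN, rfl⟩ (by nlinarith)
  have f := congrArg π (show a * b = ⟨u, uB.2⟩ * (b * a) from Subtype.ext (h'.anti ha hb e))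
  have f' : π a * π b = π b * π a := congrArg Subtype.val (aN.1.1 ⟨π a, aN'⟩ ⟨π b, bN⟩)
  rw [map_mul, map_mul, map_mul, f', eq_comm, mul_eq_right] at f
  exact nu ((ker _).1 f)

theorem inj (h : LX z Q) (n : z ≠ g * z * g⁻¹) (hz : z ∈ cj g Q) (hu : g * z * g⁻¹ ∈ Q) (hq : q ∈ Q)
    (nq : q * (g * z * g⁻¹) ≠ g * z * g⁻¹ * q) (hx : x ∈ cj g Q) (e : x * q * x⁻¹ * q⁻¹ ∈ cj g Q) : x ∈ Q := by
  have h' := h.cj g
  obtain ⟨t, ht, nt⟩ := h'.exn h.z1 n
  have e1 := (h'.cjq ht hz).resolve_left fun f => nt (mul_inv_eq_iff_eq_mul.1 f)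
  have e2 := (h.cjq hq hu).resolve_left fun f => nq (mul_inv_eq_iff_eq_mul.1 f)
  have k : t⁻¹ * q * g * z = z * (t⁻¹ * q * g) := by
    calc _ = t⁻¹ * (q * (g * z * g⁻¹) * q⁻¹) * q * g := by group
      _ = _ := by rw [e2, ← h.zc _ hu, ← e1]; group
  have y1 : q * x⁻¹ * q⁻¹ ∈ cj g Q := by simpa [mul_assoc] using mul_mem (inv_mem hx) e
  have y2 : t⁻¹ * (q * x⁻¹ * q⁻¹) * t ∈ Q := by
    obtain ⟨a, ha, rfl⟩ := hx
    have := h.nm _ k _ (inv_mem ha)
    simpa [mul_assoc] using this
  have y3 := h'.cjq ht (mul_mem (mul_mem (inv_mem ht) y1) ht)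
  rw [show t * (t⁻¹ * (q * x⁻¹ * q⁻¹) * t) * t⁻¹ = q * x⁻¹ * q⁻¹ by group] at y3
  have : q * x⁻¹ * q⁻¹ ∈ Q := y3.elim (fun f => f ▸ y2) fun f => f ▸ mul_mem hu y2
  exact inv_mem_iff.1 ((mul_mem_cancel_left hq).1 ((mul_mem_cancel_right (inv_mem hq)).1 this))

theorem nrmz (h : LX z Q) (h' : LX u Q') (ker : ∀ g : Cx(z), π g = 1 ↔ (g : G) ∈ Q) (hz : z ∈ Q') (hu : u ∈ Q)
    (n : z ≠ u) (c : Cx(z)) (e : c * u * (c : G)⁻¹ = u ∨ c * u * (c : G)⁻¹ = z * u) :
    (∀ x ∈ Q ⊓ Q', c * x * (c : G)⁻¹ ∈ Q ⊓ Q') ∧ π c ∈ Nm(im π (Q' ⊓ Cx(z))) := by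
  obtain ⟨q, hq, d, du, rfl⟩ : ∃ q : Cx(z), q.1 ∈ Q ∧ ∃ d : Cx(z), d * u = u * d ∧ c = q * d := by
    rcases e with e | e
    · exact ⟨1, one_mem _, c, mul_inv_eq_iff_eq_mul.1 e, (one_mul c).symm⟩
    obtain ⟨t, ht, nt⟩ := h.exn h'.z1 n.symm
    have e1 := (h.cjq ht hu).resolve_left fun f => nt (mul_inv_eq_iff_eq_mul.1 f)
    refine ⟨⟨t, mem_Cx.2 (h.zc t ht)⟩, ht, ⟨t, mem_Cx.2 (h.zc t ht)⟩⁻¹ * c, ?_, by group⟩
    change t⁻¹ * c * u = u * (t⁻¹ * c)
    rw [mul_assoc, mul_inv_eq_iff_eq_mul.1 e, ← e1]; group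
  refine ⟨fun x hx => ?_, ?_⟩
  · have k : d * x * (d : G)⁻¹ ∈ Q ⊓ Q' := ⟨h.nm d (mem_Cx.1 d.2) x hx.1, h'.nm d du x hx.2⟩
    rw [show ((q * d : Cx(z)) : G) * x * ((q * d : Cx(z)) : G)⁻¹ = q * (d * x * (d : G)⁻¹) * (q : G)⁻¹ by
      rw [coe_mul]; group]
    rcases h.cjq hq k.1 with f | f <;> rw [f]
    · exact k
    · exact mul_mem ⟨h.zQ, hz⟩ k
  · rw [map_mul, (ker q).2 hq, one_mul]
    refine mem_normalizer_fintype ?_
    rintro _ ⟨a, ha, rfl⟩
    exact ⟨d * a * d⁻¹, ⟨h'.nm d du a ha.1, (d * a * d⁻¹).2⟩, by simp⟩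
end

noncomputable def ac (w : List ℕ) (t : Tp) : Tp := mkT (sR.trL (w.map (Nat.add 9)) t.1)
noncomputable def wq (t : Tp) : List ℕ :=
  Tab.dec 12 (Nat.land (Nat.shiftRight QW (Nat.mul 48 t.1)) (Nat.pred (Nat.shiftLeft 1 48)))
noncomputable def a0 : Tp := mkT 32
noncomputable def q0 : Tp := mkT 64
noncomputable def b0 : Tp := mkT 2
noncomputable def s0 : Tp := ac mw0 q0 * q0⁻¹
noncomputable def Zs : List Tp := [1, Zp, a0, Zp * a0]
noncomputable def it (w : List ℕ) : Tp → Tp := List.rec (fun t => t) (fun i _ ih t =>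
  ih (mkT (force (cond (Nat.blt i 6) (t * ac (gw.getD (Nat.mod i 6) []) t) (ac (gw.getD (Nat.mod i 6) []) t)).1 id))) w

theorem kT : ∀ q : Tp, allLt 7 (wq q) = true ∧
    (q * q = 1 → q = 1 ∨ q = Zp ∨ ac (wq q) q = a0 ∨ ac (wq q) q = Zp * a0) := by decide +kernel
theorem kF : ∀ i < 6, allLt 7 (gw.getD i []) = true ∧ (ac (gw.getD i []) a0 = a0 ∨ ac (gw.getD i []) a0 = Zp * a0) := by
  decide +kernel
theorem kE : ∀ t : Tp, t * t = 1 → t * a0 = a0 * t → t ∈ Zs ∨ ∃ w ∈ PW, (it w t)⁻¹ * s0 ∈ Zs := by decide +kernel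
theorem kB : b0 * a0 = a0 * b0 ∧ ac [1] b0 * b0⁻¹ ∉ Zs ∧ q0 * a0 ≠ a0 * q0 ∧ a0 ≠ Zp ∧ a0 ≠ 1 := by decide +kernel

variable {G : Type*} [Group G] [Finite G] {z : G} {ι : Tp →* G} {π : Cx(z) →* Sp} {r : ℕ → Cx(z)}

theorem lift (h : Spin z ι π r) {w : List ℕ} (hw : allLt 7 w = true) : ∃ c : Cx(z), π c = (evw A w)⁻¹ ∧
    ∀ t, c * ι t * (c : G)⁻¹ = ι (ac w t) := by
  have hw := allLt_sound hw
  refine ⟨(evw r w)⁻¹, by rw [map_inv, hom_evw h.p w hw], fun t => ?_⟩
  have := (L.evw (ev := fun i => (r i : G)) h.l hw).inv t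
  rw [show evw (fun i => (r i : G)) w = (evw r w : Cx(z)) from (map_evw Cx(z).subtype r w).symm] at this
  refine this.trans (congrArg ι ?_)
  rw [ac, ← wdR (by simp only [List.mem_map]; rintro _ ⟨x, hx, rfl⟩; exact Nat.add_lt_add_left (hw x hx) 9), mkT_eq]
  simp only [evw, List.map_map]; rfl

theorem act (h : Spin z ι π r) {w : List ℕ} (hw : allLt 7 w = true) (x : Cx(z)) (e : π x = (evw A w)⁻¹) (t : Tp) :
    x * ι t * (x : G)⁻¹ = ι (ac w t) ∨ x * ι t * (x : G)⁻¹ = z * ι (ac w t) := by
  obtain ⟨c, e1, e2⟩ := lift h hw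
  have := (lxP h.toSx).cjq ((h.ker (x * c⁻¹)).1 (by rw [map_mul, map_inv, e, e1, mul_inv_cancel])) ⟨ac w t, rfl⟩
  rwa [← e2, show ((x * c⁻¹ : Cx(z)) : G) * (c * ι t * (c : G)⁻¹) * ((x * c⁻¹ : Cx(z)) : G)⁻¹ = x * ι t * (x : G)⁻¹ by
    rw [coe_mul, coe_inv]; group, e2] at this

theorem s0' (h : Spin z ι π r) (c : IsConj z (ι a0)) : False := by
  have l := lxP h.toSx
  obtain ⟨g, hg⟩ := isConj_iff.1 c
  have n : z ≠ ι a0 := fun e => kB.2.2.2.1 (h.inj (e.symm.trans h.z0.symm))
  have l' := l.cj g
  have hz : z ∈ cj g ι.range := by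
    have := sym l (l.cj g⁻¹) h.ker (fun e => n (by rw [← hg]; nth_rw 2 [e]; group))
      ⟨_, ⟨a0, rfl⟩, by rw [← hg]; simp [mul_assoc]⟩
    exact ⟨_, this, by simp [mul_assoc]⟩
  have I := fun x => inj (x := x) l (hg ▸ n) hz (hg ▸ ⟨a0, rfl⟩) ⟨q0, rfl⟩ (by
    rw [hg, ← map_mul, ← map_mul]; exact fun e => kB.2.2.1 (h.inj e))
  rw [hg] at l'
  generalize cj g ι.range = Q' at *
  have uQ : ι a0 ∈ ι.range := ⟨a0, rfl⟩
  have N := nrmz l l' h.ker hz uQ n
  have N' : ∀ i < 6, (∀ t, ι t ∈ Q' → ι (ac (gw.getD i []) t) ∈ Q') ∧ B i ∈ Nm(im π (Q' ⊓ Cx(z))) := fun i hi => by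
    obtain ⟨c, e1, e2⟩ := lift h (kF i hi).1
    obtain ⟨k1, k2⟩ := N c (by rw [e2, ← h.z0, ← map_mul]; exact (kF i hi).2.imp (congrArg ι) (congrArg ι))
    exact ⟨fun t ht => e2 t ▸ (k1 _ ⟨⟨t, rfl⟩, ht⟩).2, inv_mem_iff.1 (e1 ▸ k2)⟩
  have e2 : ∀ x ∈ im π (Q' ⊓ Cx(z)), x * x = 1 := by
    rintro _ ⟨a, ha, rfl⟩
    rw [← map_mul, h.ker]
    exact (l'.sq (a := a.1) ha.1).elim (fun f => by rw [coe_mul, f]; exact one_mem _) fun f => by rw [coe_mul, f]; exact uQ
  obtain ⟨RT, R0⟩ := nrm e2 fun i hi => (N' i hi).2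
  have c1 := card_im (X := Q' ⊓ Cx(z)) h.ker inf_le_right
  rw [(l'.c256 hz l.z1 n).1] at c1
  have zs : ∀ t ∈ Zs, ι t ∈ Q' := by
    simp only [Zs, List.forall_mem_cons, map_one, map_mul, h.z0]
    exact ⟨one_mem _, hz, l'.zQ, mul_mem hz l'.zQ, forall_nil⟩
  have cz : ∀ {x t}, x = ι t ∨ x = z * ι t → (x ∈ Q' ↔ ι t ∈ Q') := by
    rintro _ _ (rfl | rfl)
    · rfl
    · exact mul_mem_cancel_left hz
  have cq : ∀ {x t s}, x = ι t ∨ x = z * ι t → x * (ι s)⁻¹ = ι (t * s⁻¹) ∨ x * (ι s)⁻¹ = z * ι (t * s⁻¹) := fun e =>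
    e.imp (fun e => by rw [e, map_mul, map_inv]) fun e => by rw [e, map_mul, map_inv, mul_assoc]
  obtain ⟨x0, hx0, f0⟩ := inv_mem (R0 fun e => by
    rw [e, card_bot] at c1
    obtain ⟨a, ha, b, hb, m⟩ := l.nab (A := Q' ⊓ Cx(z) ⊓ ι.range) inf_le_right ⟨⟨hz, mem_Cx.2 rfl⟩, l.zQ⟩ (by omega)
    exact n (mul_right_cancel ((l.anti ha.2 hb.2 m).symm.trans (l'.anti ha.1.1 hb.1.1 m))))
  have ns : ι s0 ∉ Q' := fun k => mw0_ne (inv_eq_one.1 (f0 ▸ (h.ker x0).2 (I _ hx0.1
    ((cz (cq (act h (by decide) x0 f0 q0))).2 k))))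
  have E : ∀ t, ι t ∈ Q' → t ∈ Zs := fun t ht => by
    refine (kE t (h.inj ?_) (h.inj ?_)).resolve_right ?_
    · rw [map_mul, map_one]
      exact (l.sq ⟨t, rfl⟩).resolve_right fun f => (l'.sq ht).elim (fun k => l.z1 (f ▸ k)) fun k => n (f ▸ k)
    · rw [map_mul, map_mul]; exact l'.zc _ ht
    rintro ⟨w, -, k⟩
    have : ∀ w t, ι t ∈ Q' → ι (it w t) ∈ Q' := fun w => by
      induction w with
      | nil => exact fun _ k => k
      | cons i w ih =>
        intro t ht
        have p := (N' _ (Nat.mod_lt i (by decide))).1 t ht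
        refine ih _ ?_
        rw [force_eq, id, mkT_eq]
        cases Nat.blt i 6
        · exact p
        · exact map_mul ι _ _ ▸ mul_mem ht p
    have k := zs _ k
    rw [map_mul, map_inv] at k
    exact ns ((mul_mem_cancel_left (inv_mem (this w t ht))).1 k)
  have c2 := card_le_of_le (H := Q' ⊓ Cx(z) ⊓ ι.range) (K := ι.range ⊓ Cz(ι.range ⊓ Cx(ι a0))) (by
    rintro _ ⟨ha, t, rfl⟩
    refine ⟨⟨t, rfl⟩, fun b hb => ?_⟩
    have := E t ha.1
    simp only [Zs, List.mem_cons, List.not_mem_nil, or_false] at this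
    rcases this with rfl | rfl | rfl | rfl
    · simp
    · rw [h.z0]; exact l.zc b hb.1
    · exact mem_Cx.1 hb.2
    · rw [map_mul, h.z0]; exact Commute.mul_right (l.zc b hb.1) (mem_Cx.1 hb.2))
  rw [(l.c256 uQ l'.z1 n.symm).2] at c2
  obtain ⟨x1, hx1, f1⟩ := (big RT e2 (by by_contra! k; nlinarith)).ge (inv_mem (OW_mem [1] (by decide)))
  refine kB.2.1 (E _ ((cz (cq (s := b0) (act h (by decide) x1 f1 b0))).1 ?_))
  have := l'.nm (ι b0) (by rw [← map_mul, ← map_mul, kB.1]) _ (inv_mem hx1.1)
  simpa [mul_assoc] using mul_mem hx1.1 this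

theorem s1 (h : Spin z ι π r) (q : Tp) (c : IsConj z (ι q)) : q = Zp := by
  have l := lxP h.toSx
  obtain ⟨g, hg⟩ := isConj_iff.1 c
  obtain ⟨k, -, e⟩ := lift h (kT q).1
  have c' := c.trans (isConj_iff.2 ⟨_, e q⟩)
  rcases (kT q).2 (h.inj (by rw [map_mul, ← hg, ← cjm, l.z2]; simp)) with f | f | f | f
  · exact absurd (isConj_one_left.1 (by rwa [f, map_one] at c)) l.z1
  · exact f
  · exact (s0' h (f ▸ c')).elim
  · refine (s0' h (c'.trans (isConj_iff.2 ⟨ι q0, ?_⟩).symm)).elim
    rw [f, map_mul, h.z0]
    exact (l.cjq ⟨q0, rfl⟩ ⟨a0, rfl⟩).resolve_left fun f => kB.2.2.1 (h.inj (by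
      rw [map_mul, map_mul]; exact mul_inv_eq_iff_eq_mul.1 f))

end CfH5.Nat
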